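import Groth.Agent.UnipComp.Points
import Mathlib.RingTheory.Polynomial.Pochhammer
import Mathlib.Algebra.Polynomial.Roots
import Mathlib.Algebra.BigOperators.Intervals
import Mathlib.Data.Nat.Choose.Cast
import Mathlib.RingTheory.Int.Basic

/-!
# Powers in the group of points of a unipotent Hopf algebra
-/

universe u v w

open Polynomial

namespace Groth.Agent.UnipComp.Powers

open Groth.Agent.ComodLib Groth.Agent.UnipComp.Points

variable {k : Type u} [Field k] {A : Type v} [CommRing A] [Bialgebra k A]

variable (k) in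
/-- Integer valued functions in the span of binomial coefficients. -/
def polyFun : Submodule k (ℕ → k) := Submodule.span k (Set.range fun s n => ((n.choose s : ℕ) : k))

theorem const_mem (c : k) : (fun _ => c) ∈ polyFun k := by
  have : (fun _ : ℕ => c) = c • fun n : ℕ => ((n.choose 0 : ℕ) : k) := funext fun n => by simp
  rw [this]
  exact Submodule.smul_mem _ _ (Submodule.subset_span ⟨0, rfl⟩)

theorem sum_mem {h : ℕ → k} (hh : h ∈ polyFun k) : (fun n => ∑ m ∈ Finset.range n, h m) ∈ polyFun k := by
  induction hh using Submodule.span_induction with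
  | mem x hx =>
    obtain ⟨s, rfl⟩ := hx
    refine Submodule.subset_span ⟨s + 1, funext fun n => ?_⟩
    show ((n.choose (s + 1) : ℕ) : k) = ∑ m ∈ Finset.range n, ((m.choose s : ℕ) : k)
    induction n with
    | zero => simp
    | succ n ih => rw [Finset.sum_range_succ, ← ih, Nat.choose_succ_succ]; push_cast; ring
  | zero =>
    convert Submodule.zero_mem (polyFun k) using 1
    funext n; simp
  | add x y _ _ hx hy =>
    convert Submodule.add_mem _ hx hy using 1
    funext n; simp [Finset.sum_add_distrib]
  | smul c x _ hx =>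
    convert Submodule.smul_mem _ c hx using 1
    funext n; simp [Finset.mul_sum]

theorem exists_poly [CharZero k] {h : ℕ → k} (hh : h ∈ polyFun k) : ∃ p : k[X], ∀ n : ℕ, p.eval (n : k) = h n := by
  induction hh using Submodule.span_induction with
  | mem x hx =>
    obtain ⟨s, rfl⟩ := hx
    refine ⟨C (((s.factorial : ℕ) : k)⁻¹) * descPochhammer k s, fun n => ?_⟩
    show _ = ((n.choose s : ℕ) : k)
    rw [eval_mul, eval_C, Nat.cast_choose_eq_descPochhammer_div, div_eq_inv_mul]
  | zero => exact ⟨0, fun n => by simp⟩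
  | add x y _ _ hx hy =>
    obtain ⟨p, hp⟩ := hx
    obtain ⟨q, hq⟩ := hy
    exact ⟨p + q, fun n => by simp [hp, hq]⟩
  | smul c x _ hx =>
    obtain ⟨p, hp⟩ := hx
    exact ⟨C c * p, fun n => by simp [hp]⟩

theorem pow_apply_mem (hU : HopfRep.IsUnipotent k A) (g : WithConv (A →ₐ[k] k)) (a : A) :
    (fun n : ℕ => (g ^ n) a) ∈ polyFun k := by
  classical
  have main : ∀ (d n : ℕ) (M : Fin n → Fin n → A) (i j : Fin n), IsUniMatrix k M → (j : ℕ) ≤ i + d →
      (fun m : ℕ => (g ^ m) (M i j)) ∈ polyFun k := by
    intro d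
    induction d with
    | zero =>
      intro n M i j hM h
      simp only [one_entry hM (Fin.le_def.mpr (by omega : (j : ℕ) ≤ i))]
      exact const_mem _
    | succ d ih =>
      intro n M i j hM h
      let q : ℕ → k := fun m => ∑ l ∈ Finset.univ.erase j, (g ^ m) (M i l) * g (M l j)
      have hq : q ∈ polyFun k := by
        rw [show q = ∑ l ∈ Finset.univ.erase j, (fun m : ℕ => (g ^ m) (M i l) * g (M l j)) from
          funext fun m => by simp [q]]
        refine Submodule.sum_mem _ fun l hl => ?_
        by_cases hlj : (l : ℕ) < j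
        · rw [show (fun m : ℕ => (g ^ m) (M i l) * g (M l j)) = g (M l j) • fun m : ℕ => (g ^ m) (M i l) from
            funext fun m => by simp [mul_comm]]
          exact Submodule.smul_mem _ _ (ih n M i l hM (by omega))
        · rw [show (fun m : ℕ => (g ^ m) (M i l) * g (M l j)) = 0 from funext fun m => by
            rw [one_entry hM (i := l) (j := j) (by rw [Fin.le_def]; omega) g.ofConv,
              if_neg (Finset.ne_of_mem_erase hl), mul_zero]; rfl]
          exact Submodule.zero_mem _
      have hstep : ∀ m : ℕ, (g ^ (m + 1)) (M i j) = (g ^ m) (M i j) + q m := fun m => by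
        rw [pow_succ, mul_entry hM, ← Finset.add_sum_erase _ _ (Finset.mem_univ j),
          one_entry hM le_rfl g.ofConv, if_pos rfl, mul_one]
      have hsum : (fun m : ℕ => (g ^ m) (M i j)) =
          (fun _ : ℕ => (g ^ 0) (M i j)) + fun m : ℕ => ∑ l ∈ Finset.range m, q l := funext fun m => by
        induction m with
        | zero => simp
        | succ m ihm =>
          rw [Pi.add_apply] at ihm ⊢
          rw [hstep, ihm, Finset.sum_range_succ]
          ring
      rw [hsum]
      exact Submodule.add_mem _ (const_mem _) (sum_mem hq)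
  obtain ⟨r, hr⟩ := (Submodule.mem_iSup_of_directed _ (uniLevel_mono (k := k) (A := A)).directed_le).mp
    (iSup_uniLevel_eq_top hU ▸ Submodule.mem_top : a ∈ ⨆ r, uniLevel k A r)
  induction hr using Submodule.span_induction with
  | mem x hx =>
    obtain ⟨n, M, i, j, hM, hl, rfl⟩ := hx
    exact main r n M i j hM hl
  | zero =>
    convert Submodule.zero_mem (polyFun k) using 1
    funext n; simp
  | add x y _ _ hx hy =>
    convert Submodule.add_mem _ hx hy using 1
    funext n; simp
  | smul c x _ hx =>
    convert Submodule.smul_mem _ c hx using 1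
    funext n; simp

theorem eq_of_eval_nat [CharZero k] {p q : k[X]} (h : ∀ n : ℕ, p.eval (n : k) = q.eval (n : k)) : p = q :=
  Polynomial.eq_of_infinite_eval_eq p q
    ((Set.infinite_range_of_injective (f := (Nat.cast : ℕ → k)) Nat.cast_injective).mono fun x hx => by obtain ⟨n, rfl⟩ := hx; exact h n)

theorem eval_aeval (p q : k[X]) (x : k) : (Polynomial.aeval q p).eval x = p.eval (q.eval x) := by
  induction p using Polynomial.induction_on' with
  | add a b ha hb => simp [ha, hb]
  | monomial n c => simp [Polynomial.aeval_monomial]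

/-- The one parameter subgroup through a point, in characteristic zero. -/
theorem exists_oneParam [CharZero k] (hU : HopfRep.IsUnipotent k A) (g : WithConv (A →ₐ[k] k)) :
    ∃ P : A →ₐ[k] k[X], ∀ n : ℕ, WithConv.toConv ((Polynomial.aeval (n : k)).comp P) = g ^ n := by
  choose P hP using fun a => exists_poly (pow_apply_mem hU g a)
  refine ⟨{ toFun := P, map_one' := ?_, map_mul' := fun a b => ?_, map_zero' := ?_, map_add' := fun a b => ?_,
            commutes' := fun c => ?_ }, fun n => WithConv.ofConv_injective (AlgHom.ext fun a => ?_)⟩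
  all_goals try refine eq_of_eval_nat fun n => ?_
  · simp [hP]
  · simp [hP]
  · simp [hP]
  · simp [hP]
  · simp [hP, Polynomial.algebraMap_eq]
  · simpa using hP a n

theorem pow_bijective_charZero [CharZero k] (hU : HopfRep.IsUnipotent k A) {e : ℕ} (he : e ≠ 0) :
    Function.Bijective fun g : WithConv (A →ₐ[k] k) => g ^ e := by
  have he' : (e : k) ≠ 0 := Nat.cast_ne_zero.mpr he
  choose P hP using exists_oneParam hU
  have h1 : ∀ g, WithConv.toConv ((Polynomial.aeval (1 : k)).comp (P g)) = g := fun g => by
    simpa using hP g 1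
  -- `g ↦ P g (1/e)` is inverse to `g ↦ g ^ e`
  have key : ∀ g h : WithConv (A →ₐ[k] k), h ^ e = g →
      P g = (Polynomial.aeval ((e : k[X]) * X)).comp (P h) := fun g h hh => AlgHom.ext fun a =>
    eq_of_eval_nat fun n => by
      have e1 := congrArg (fun f : WithConv (A →ₐ[k] k) => f a) (hP g n)
      have e2 := congrArg (fun f : WithConv (A →ₐ[k] k) => f a) (hP h (e * n))
      rw [pow_mul, hh] at e2
      simp only [AlgHom.comp_apply, Polynomial.coe_aeval_eq_eval] at e1 e2
      rw [e1, ← e2, AlgHom.comp_apply, eval_aeval]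
      simp
  refine ⟨fun h h' hh => ?_, fun g => ?_⟩
  · have hh' : h ^ e = h' ^ e := hh
    have e1 := key _ h rfl
    have e2 := key _ h' hh'.symm
    rw [← h1 h, ← h1 h']
    refine congrArg WithConv.toConv (AlgHom.ext fun a => ?_)
    have := congrArg (fun f : A →ₐ[k] k[X] => Polynomial.aeval ((e : k)⁻¹) (f a)) (e1.symm.trans e2)
    simp only [AlgHom.comp_apply, ← Polynomial.aeval_algHom_apply, map_mul, map_natCast, Polynomial.aeval_X] at this
    simpa [mul_inv_cancel₀ he'] using this
  · refine ⟨WithConv.toConv ((Polynomial.aeval ((e : k)⁻¹)).comp (P g)), ?_⟩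
    show _ ^ e = g
    have hpow : ∀ (F : A →ₐ[k] k[X]) (c : k) (m : ℕ),
        WithConv.toConv ((Polynomial.aeval c).comp F) ^ m =
          WithConv.toConv ((Polynomial.aeval c).comp (WithConv.toConv F ^ m).ofConv) := fun F c m => by
      induction m with
      | zero =>
        refine WithConv.ofConv_injective (AlgHom.ext fun a => ?_)
        simp
      | succ m ih =>
        rw [pow_succ, pow_succ, ih, AlgHom.comp_convMul_distrib]
    have hPe : (WithConv.toConv (P g) ^ e).ofConv = (Polynomial.aeval ((e : k[X]) * X)).comp (P g) :=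
      AlgHom.ext fun a => eq_of_eval_nat fun n => by
        have e1 := congrArg (fun f : WithConv (A →ₐ[k] k) => f a) (hpow (P g) (n : k) e)
        have e2 := congrArg (fun f : WithConv (A →ₐ[k] k) => f a) (hP g (n * e))
        rw [hP g n, ← pow_mul] at e1
        simp only [AlgHom.comp_apply, Polynomial.coe_aeval_eq_eval] at e1 e2
        rw [← e1, ← e2, AlgHom.comp_apply, eval_aeval]
        simp [mul_comm]
    rw [hpow, hPe]
    conv_rhs => rw [← h1 g]
    refine congrArg WithConv.toConv (AlgHom.ext fun a => ?_)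
    simp only [AlgHom.comp_apply, ← Polynomial.aeval_algHom_apply, map_mul, map_natCast, Polynomial.aeval_X,
      mul_inv_cancel₀ he']

variable {R : Type w} [CommRing R] [Algebra k R]

theorem _root_.Groth.Agent.UnipComp.Points.AgreeOn.pow_entry {r : ℕ} {f : WithConv (A →ₐ[k] R)}
    (hf : AgreeOn r f 1) (m : ℕ) {n : ℕ} {M : Fin n → Fin n → A} (hM : IsUniMatrix k M) {i j : Fin n}
    (hl : (j : ℕ) ≤ (i : ℕ) + (r + 1)) (hij : ¬ (j : ℕ) ≤ i) : (f ^ m) (M i j) = m * f (M i j) := by
  induction m with
  | zero => rw [pow_zero, AlgHom.convOne_apply, counit_entry hM, if_neg (fun e => by subst e; omega)]; simp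
  | succ m ih =>
    rw [pow_succ', (hf.entry (f ^ m) hM hl hij).1, ih]
    push_cast
    ring


theorem pow_mem_level (p : ℕ) [CharP R p] {r : ℕ} {f : WithConv (A →ₐ[k] R)} (hf : AgreeOn r f 1) :
    AgreeOn (r + 1) (f ^ p) 1 := by
  rw [agreeOn_iff]
  intro n M i j hM hl
  rw [AlgHom.convOne_apply, counit_entry hM]
  by_cases hij : (j : ℕ) ≤ i
  · rw [one_entry hM (Fin.le_def.mpr hij)]
    split <;> simp
  · rw [if_neg (fun e => by subst e; omega), map_zero]
    rw [hf.pow_entry p hM hl hij, CharP.cast_eq_zero, zero_mul]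

theorem pow_prime_pow_eq_one (p : ℕ) [CharP R p] [Algebra.FiniteType k A] (hU : HopfRep.IsUnipotent k A) :
    ∃ N : ℕ, ∀ f : WithConv (A →ₐ[k] R), f ^ p ^ N = 1 := by
  classical
  obtain ⟨s, hs⟩ := Algebra.FiniteType.out (R := k) (A := A)
  have hex : ∀ a : A, ∃ r, a ∈ uniLevel k A r := fun a =>
    (Submodule.mem_iSup_of_directed _ (uniLevel_mono (k := k) (A := A)).directed_le).mp
      (iSup_uniLevel_eq_top hU ▸ Submodule.mem_top : a ∈ ⨆ r, uniLevel k A r)
  choose r hr using hex
  refine ⟨s.sup r, fun f => WithConv.ofConv_injective (AlgHom.ext_of_adjoin_eq_top hs fun a ha => ?_)⟩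
  have h : ∀ m, AgreeOn m (f ^ p ^ m) 1 := fun m => by
    induction m with
    | zero =>
      intro a ha
      rw [uniLevel_zero, Submodule.mem_span_singleton] at ha
      obtain ⟨c, rfl⟩ := ha
      simp
    | succ m ih => rw [pow_succ, pow_mul]; exact pow_mem_level p ih
  exact h _ a (uniLevel_mono (Finset.le_sup (by simpa using ha)) (hr a))

theorem eq_one_of_pow_eq_one [Algebra.FiniteType k A] [NoZeroDivisors R] [CharZero R]
    (hU : HopfRep.IsUnipotent k A) {m : ℕ} (hm : m ≠ 0) {f : WithConv (A →ₐ[k] R)} (hf : f ^ m = 1) :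
    f = 1 := by
  have hall : ∀ r, AgreeOn r f 1 := fun r => by
    induction r with
    | zero =>
      intro a ha
      rw [uniLevel_zero, Submodule.mem_span_singleton] at ha
      obtain ⟨c, rfl⟩ := ha
      simp
    | succ r ih =>
      rw [agreeOn_iff]
      intro n M i j hM hl
      rw [AlgHom.convOne_apply, counit_entry hM]
      by_cases hij : (j : ℕ) ≤ i
      · rw [one_entry hM (Fin.le_def.mpr hij)]
        split <;> simp
      · have hne : i ≠ j := fun e => by subst e; omega
        have := ih.pow_entry m hM hl hij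
        rw [hf, AlgHom.convOne_apply, counit_entry hM, if_neg hne, map_zero] at this
        rw [if_neg hne, map_zero]
        exact (mul_eq_zero.mp this.symm).resolve_left (Nat.cast_ne_zero.mpr hm)
  refine WithConv.ofConv_injective (AlgHom.ext fun a => ?_)
  obtain ⟨r, hr⟩ := (Submodule.mem_iSup_of_directed _ (uniLevel_mono (k := k) (A := A)).directed_le).mp
    (iSup_uniLevel_eq_top hU ▸ Submodule.mem_top : a ∈ ⨆ r, uniLevel k A r)
  exact hall r a hr

end Groth.Agent.UnipComp.Powers
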