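import Groth.Agent.UnipComp.Filt
import Mathlib.RingTheory.Bialgebra.TensorProduct
import Mathlib.LinearAlgebra.TensorProduct.Tower

/-!
The filtration at the unit after extension of scalars.
-/

universe u

open TensorProduct

namespace Groth.Agent.UnipComp

open ComodLib

attribute [local instance] regComod

variable {k : Type u} [Field k] {A : Type u} [CommRing A] [Bialgebra k A] [Coalgebra.IsCocomm k A]
  {K : Type u} [Field K] [Algebra k K]

/-- Extension of a functional. -/
noncomputable def extF (K : Type u) [Field K] [Algebra k K] (φ : A →ₗ[k] k) : K ⊗[k] A →ₗ[K] K :=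
  (AlgebraTensorModule.rid k K K).toLinearMap ∘ₗ φ.baseChange K

theorem extF_tmul (φ : A →ₗ[k] k) (c : K) (a : A) :
    extF K φ (c ⊗ₜ[k] a) = φ a • c := by
  simp [extF]

theorem shift_extF (φ : A →ₗ[k] k) (x : K ⊗[k] A) :
    shift (1 : K ⊗[k] A) (extF K φ) x = (shift (1 : A) φ).baseChange K x := by
  induction x using TensorProduct.induction_on with
  | zero => simp
  | add p q hp hq => simp only [map_add, hp, hq]
  | tmul c a =>
    have h1 : extF K φ (1 : K ⊗[k] A) = algebraMap k K (φ 1) := by
      rw [Algebra.TensorProduct.one_def, extF_tmul, Algebra.algebraMap_eq_smul_one]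
    have h2 : actF (extF K φ) (c ⊗ₜ[k] a) = c ⊗ₜ[k] actF φ a := by
      rw [actF_apply, actF_apply]
      show slice (extF K φ) (Coalgebra.comul (R := K) (c ⊗ₜ[k] a)) =
        c ⊗ₜ[k] slice φ (Coalgebra.comul (R := k) a)
      rw [TensorProduct.comul_tmul, CommSemiring.comul_apply]
      generalize Coalgebra.comul (R := k) a = z
      induction z using TensorProduct.induction_on with
      | zero => simp
      | add p q hp hq => simp only [map_add, TensorProduct.tmul_add, hp, hq]
      | tmul p q =>
        rw [AlgebraTensorModule.tensorTensorTensorComm_tmul, slice_tmul, slice_tmul, extF_tmul,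
          smul_tmul', smul_eq_mul, TensorProduct.tmul_smul, TensorProduct.smul_tmul']
        simp
    simp only [LinearMap.baseChange_tmul, shift, LinearMap.sub_apply, LinearMap.smul_apply,
      LinearMap.id_apply, h1, h2, TensorProduct.tmul_sub, TensorProduct.tmul_smul, algebraMap_smul]

theorem eq_zero_of_forall_slice_lTensor {M : Type u} [AddCommGroup M] [Module k M]
    (z : K ⊗[k] (M ⊗[k] A)) (h : ∀ φ : A →ₗ[k] k, (slice φ).lTensor K z = 0) : z = 0 := by
  apply (TensorProduct.assoc k K M A).symm.injective
  rw [map_zero]
  refine ComodLib.eq_zero_of_forall_slice_eq_zero fun φ => ?_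
  refine Eq.trans ?_ (h φ)
  clear h
  induction z using TensorProduct.induction_on with
  | zero => simp
  | add p q hp hq => simp only [map_add, hp, hq]
  | tmul c w =>
    induction w using TensorProduct.induction_on with
    | zero => simp
    | add p q hp hq => simp only [TensorProduct.tmul_add, map_add, hp, hq]
    | tmul m a => simp [TensorProduct.tmul_smul]

theorem F_baseChange_le : ∀ n : ℕ, F K (1 : K ⊗[k] A) n ≤ (F k (1 : A) n).baseChange K
  | 0 => bot_le
  | n + 1 => by
    intro x hx
    let V := F k (1 : A) n
    let θ : A →ₗ[k] (A ⧸ V) ⊗[k] A := V.mkQ.rTensor A ∘ₗ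
      (Coalgebra.comul (R := k) - (TensorProduct.mk k A A).flip 1)
    have hθslice : ∀ φ : A →ₗ[k] k, slice φ ∘ₗ θ = V.mkQ ∘ₗ shift (1 : A) φ := by
      intro φ
      ext a
      simp only [LinearMap.comp_apply, θ, slice_rTensor, shift_eq_slice]
      rfl
    have hker : LinearMap.ker θ = F k (1 : A) (n + 1) := by
      ext a
      rw [LinearMap.mem_ker, mem_F_succ]
      constructor
      · intro h φ
        rw [← Submodule.Quotient.mk_eq_zero]
        have := LinearMap.congr_fun (hθslice φ) a
        rw [LinearMap.comp_apply, h, map_zero] at this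
        exact this.symm
      · intro h
        refine ComodLib.eq_zero_of_forall_slice_eq_zero fun φ => ?_
        rw [← LinearMap.comp_apply, hθslice, LinearMap.comp_apply, Submodule.mkQ_apply,
          Submodule.Quotient.mk_eq_zero]
        exact h φ
    have hx0 : θ.lTensor K x = 0 := by
      refine eq_zero_of_forall_slice_lTensor _ fun φ => ?_
      rw [← LinearMap.lTensor_comp_apply, hθslice, LinearMap.lTensor_comp_apply]
      have h1 := F_baseChange_le n (mem_F_succ.1 hx (extF K φ))
      rw [shift_extF] at h1
      show V.mkQ.lTensor K ((shift (1 : A) φ).baseChange K x) = 0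
      rw [Submodule.baseChange_eq_span] at h1
      generalize (shift (1 : A) φ).baseChange K x = y at h1 ⊢
      induction h1 using Submodule.span_induction with
      | mem y hy =>
        obtain ⟨v, hv, rfl⟩ := hy
        rw [TensorProduct.mk_apply, LinearMap.lTensor_tmul, Submodule.mkQ_apply,
          (Submodule.Quotient.mk_eq_zero V).2 hv, TensorProduct.tmul_zero]
      | zero => simp
      | add p q _ _ hp hq => rw [map_add, hp, hq, add_zero]
      | smul c p _ hp =>
        rw [show V.mkQ.lTensor K (c • p) = c • V.mkQ.lTensor K p from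
          (V.mkQ.baseChange K).map_smul c p, hp, smul_zero]
    obtain ⟨w, hw⟩ := (Module.Flat.lTensor_exact K (LinearMap.exact_subtype_ker_map θ) x).1 hx0
    rw [← hker, ← hw]
    clear hw hx0 hx
    induction w using TensorProduct.induction_on with
    | zero => simp
    | add p q hp hq => rw [map_add]; exact add_mem hp hq
    | tmul c v =>
      rw [LinearMap.lTensor_tmul]
      exact Submodule.tmul_mem_baseChange_of_mem c v.2

end Groth.Agent.UnipComp
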