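import Groth.Agent.UnipComp.Split
import Groth.Agent.UnipComp.BaseChange
import Groth.Agent.GrpSchLib.HopfTransfer
import Groth.Agent.MultTypeLib.HopfKer
import Groth.Prelude.Def_SGA3b
import Mathlib.RingTheory.HopfAlgebra.Quotient
import Mathlib.RingTheory.Bialgebra.Quotient
import Mathlib.RingTheory.HopfAlgebra.TensorProduct
import Mathlib.RingTheory.Bialgebra.Equiv
import Mathlib.RingTheory.Bialgebra.MonoidAlgebra
import Mathlib.FieldTheory.IsAlgClosed.AlgebraicClosure

/-!
The largest subgroup of multiplicative type of a commutative affine group over a field.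
-/

universe u

open TensorProduct

namespace Groth.Agent.UnipComp

attribute [local instance] regComod

/-- A Hopf algebra spanned by its group-likes is diagonalisable. -/
theorem isDiag_of_span {K : Type u} [Field K] {Q : Type u} [CommRing Q] [HopfAlgebra K Q]
    (h : ∀ x : Q, x ∈ Submodule.span K {g : Q | IsGroupLikeElem K g}) : SGA3b.IsDiag K Q := by
  have : Nontrivial Q := (Bialgebra.counitAlgHom K Q).toRingHom.domain_nontrivial
  let f : MonoidAlgebra K (GroupLike K Q) →ₐ[K] Q :=
    MonoidAlgebra.lift K Q (GroupLike K Q) (GroupLike.valMonoidHom (R := K) (A := Q))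
  have hf : ∀ g : GroupLike K Q, f (MonoidAlgebra.single g 1) = (g : Q) := fun g => by
    simp [f]
  have hsurj : Function.Surjective f := by
    intro x
    induction h x using Submodule.span_induction with
    | mem y hy => exact ⟨MonoidAlgebra.single ⟨y, hy⟩ 1, hf _⟩
    | zero => exact ⟨0, map_zero f⟩
    | add p q _ _ hp hq =>
      obtain ⟨a, rfl⟩ := hp
      obtain ⟨b, rfl⟩ := hq
      exact ⟨a + b, map_add f a b⟩
    | smul c p _ hp =>
      obtain ⟨a, rfl⟩ := hp
      exact ⟨c • a, map_smul f c a⟩
  have hli : LinearIndependent K (GroupLike.val : GroupLike K Q → Q) :=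
    linearIndepOn_isGroupLikeElem.linearIndependent.comp (fun g : GroupLike K Q => ⟨g.1, g.2⟩)
      fun a b e => GroupLike.val_injective (congrArg Subtype.val e)
  have hinj : Function.Injective f := by
    rw [injective_iff_map_eq_zero]
    intro x hx
    have h1 : f x = Finsupp.linearCombination K (GroupLike.val : GroupLike K Q → Q) x.coeff := by
      simp [f, MonoidAlgebra.lift_apply, Finsupp.linearCombination_apply]
    rw [h1] at hx
    have := linearIndependent_iff.1 hli x.coeff hx
    ext g
    rw [this]
    rfl
  have hc : (Bialgebra.counitAlgHom K Q).comp f =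
      Bialgebra.counitAlgHom K (MonoidAlgebra K (GroupLike K Q)) :=
    MonoidAlgebra.algHom_ext (fun g => by simp [hf, IsGroupLikeElem.counit_eq_one g.2])
      (Subsingleton.elim _ _)
  have hm : (Algebra.TensorProduct.map f f).comp
      (Bialgebra.comulAlgHom K (MonoidAlgebra K (GroupLike K Q))) = (Bialgebra.comulAlgHom K Q).comp f :=
    MonoidAlgebra.algHom_ext (fun g => by simp [hf, IsGroupLikeElem.comul_eq_tmul_self g.2])
      (Subsingleton.elim _ _)
  exact ⟨GroupLike K Q, inferInstance,
    ⟨(BialgEquiv.ofBijective (BialgHom.ofAlgHom f hc hm) ⟨hinj, hsurj⟩).symm⟩⟩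

variable {k : Type u} [Field k] {A : Type u} [CommRing A] [HopfAlgebra k A] [Coalgebra.IsCocomm k A]

theorem eq_counit_of_multType {C : Type u} [CommRing C] [HopfAlgebra k C]
    (h : SGA3b.IsMultTypeConst k C) {x : C}
    (hx : Coalgebra.comul (R := k) x = x ⊗ₜ[k] (1 : C) + (1 : C) ⊗ₜ[k] x -
      algebraMap k (C ⊗[k] C) (Coalgebra.counit (R := k) x)) :
    x = algebraMap k C (Coalgebra.counit (R := k) x) := by
  classical
  obtain ⟨R', _, _, hff, M, _, ⟨e⟩⟩ := h
  let ε := Coalgebra.counit (R := k) x
  let y : R' ⊗[k] C := (1 : R') ⊗ₜ[k] x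
  have hy : Coalgebra.comul (R := R') y = y ⊗ₜ[R'] (1 : R' ⊗[k] C) + (1 : R' ⊗[k] C) ⊗ₜ[R'] y -
      algebraMap R' ((R' ⊗[k] C) ⊗[R'] (R' ⊗[k] C)) (algebraMap k R' ε) := by
    show Coalgebra.comul (R := R') ((1 : R') ⊗ₜ[k] x) = _
    rw [TensorProduct.comul_tmul, CommSemiring.comul_apply, hx, TensorProduct.tmul_sub, TensorProduct.tmul_add,
      map_sub, map_add, AlgebraTensorModule.tensorTensorTensorComm_tmul,
      AlgebraTensorModule.tensorTensorTensorComm_tmul, Algebra.algebraMap_eq_smul_one,
      ← TensorProduct.smul_tmul, Algebra.TensorProduct.one_def (A := C) (B := C),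
      TensorProduct.smul_tmul', AlgebraTensorModule.tensorTensorTensorComm_tmul]
    congr 1
    rw [Algebra.algebraMap_eq_smul_one (A := (R' ⊗[k] C) ⊗[R'] (R' ⊗[k] C)),
      Algebra.TensorProduct.one_def (A := R' ⊗[k] C) (B := R' ⊗[k] C), TensorProduct.smul_tmul',
      Algebra.TensorProduct.one_def (A := R') (B := C), TensorProduct.smul_tmul' (algebraMap k R' ε),
      smul_eq_mul, mul_one, ← Algebra.algebraMap_eq_smul_one]
  let p : MonoidAlgebra R' M := e y
  have hp : Coalgebra.comul (R := R') p = p ⊗ₜ[R'] (1 : MonoidAlgebra R' M) + (1 : MonoidAlgebra R' M) ⊗ₜ[R'] p -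
      algebraMap R' _ (algebraMap k R' ε) := by
    show Coalgebra.comul (R := R') (e y) = _
    rw [← CoalgHomClass.map_comp_comul_apply e, hy, map_sub, map_add, TensorProduct.map_tmul,
      TensorProduct.map_tmul, Algebra.algebraMap_eq_smul_one, map_smul,
      Algebra.TensorProduct.one_def (A := R' ⊗[k] C) (B := R' ⊗[k] C), TensorProduct.map_tmul,
      Algebra.algebraMap_eq_smul_one (A := MonoidAlgebra R' M ⊗[R'] MonoidAlgebra R' M),
      Algebra.TensorProduct.one_def (A := MonoidAlgebra R' M) (B := MonoidAlgebra R' M)]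
    simp only [LinearMap.coe_coe, map_one, p]
  have hcoef : ∀ m : M, m ≠ 1 → p.coeff m = 0 := by
    intro m hm
    let δ : MonoidAlgebra R' M →ₗ[R'] R' := (Finsupp.lapply m) ∘ₗ (MonoidAlgebra.coeffLinearEquiv R').toLinearMap
    have hδ : ∀ n, δ (MonoidAlgebra.single n 1) = if n = m then 1 else 0 := fun n => by
      simp [δ, Finsupp.single_apply]
    have h2 := congrArg (fun w => TensorProduct.lid R' R' (TensorProduct.map δ δ w)) hp
    have hsum : ∀ q : MonoidAlgebra R' M,
        TensorProduct.lid R' R' (TensorProduct.map δ δ (Coalgebra.comul (R := R') q)) = q.coeff m := by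
      intro q
      induction q using MonoidAlgebra.induction_linear with
      | zero => simp
      | add p q hp hq => simp only [map_add, hp, hq, MonoidAlgebra.coeff_add, Finsupp.add_apply]
      | single n r =>
        rw [show MonoidAlgebra.single n r = r • MonoidAlgebra.single n (1 : R') by simp,
          map_smul, map_smul, map_smul, MonoidAlgebra.comul_single]
        simp [hδ, Finsupp.single_apply]
        exact fun h1 h2 => absurd h2 h1
    simp only [hsum, map_sub, map_add, TensorProduct.map_tmul, TensorProduct.lid_tmul,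
      Algebra.algebraMap_eq_smul_one, map_smul, Algebra.TensorProduct.one_def] at h2
    rw [show δ (1 : MonoidAlgebra R' M) = 0 by
      rw [MonoidAlgebra.one_def, hδ, if_neg (Ne.symm hm)]] at h2
    simpa using h2
  have hcnt : Coalgebra.counit (R := R') p = algebraMap k R' ε := by
    show Coalgebra.counit (R := R') (e y) = _
    rw [CoalgHomClass.counit_comp_apply]
    simp [y, ε, Algebra.algebraMap_eq_smul_one]
  have hp1 : p = MonoidAlgebra.single 1 (p.coeff 1) := by
    ext m
    by_cases hm : m = 1
    · subst hm; simp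
    · rw [hcoef m hm]; simp [Finsupp.single_apply, Ne.symm hm]
  have hp2 : p = algebraMap R' (MonoidAlgebra R' M) (algebraMap k R' ε) := by
    rw [hp1] at hcnt ⊢
    simp at hcnt
    rw [hcnt]
    simp [MonoidAlgebra.algebraMap_def]
  have hy2 : y = (1 : R') ⊗ₜ[k] algebraMap k C ε := by
    apply e.injective
    show p = _
    rw [hp2, ← Algebra.TensorProduct.includeRight_apply, AlgHom.commutes,
      IsScalarTower.algebraMap_apply k R' (R' ⊗[k] C)]
    exact (AlgHomClass.commutes e (algebraMap k R' ε)).symm
  exact Module.FaithfullyFlat.tensorProduct_mk_injective (A := k) (B := R') C hy2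

/-- A homomorphism to a Hopf algebra of multiplicative type kills the component of the unit. -/
theorem map_mem_comp {C : Type u} [CommRing C] [HopfAlgebra k C] (h : SGA3b.IsMultTypeConst k C)
    (f : A →ₐc[k] C) : ∀ (n : ℕ) (x : A), x ∈ F k (1 : A) n →
      f x = algebraMap k C (Coalgebra.counit (R := k) x) := by
  intro n
  induction n with
  | zero => intro x hx; rw [show x = 0 from (Submodule.mem_bot k).1 hx]; simp
  | succ n ih =>
    intro x hx
    rw [← CoalgHomClass.counit_comp_apply f]
    refine eq_counit_of_multType h ?_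
    obtain ⟨z, hz⟩ := mem_F_succ_iff_range.1 hx
    let f' := (f : A →ₐ[k] C).toLinearMap
    have h1 : Coalgebra.comul (R := k) (f x) - f x ⊗ₜ[k] (1 : C) =
        (1 : C) ⊗ₜ[k] TensorProduct.lid k C ((Coalgebra.counit (R := k) (A := C)).rTensor C
          (Coalgebra.comul (R := k) (f x) - f x ⊗ₜ[k] (1 : C))) := by
      have e : Coalgebra.comul (R := k) (f x) - f x ⊗ₜ[k] (1 : C) =
          TensorProduct.map f' f' ((F k (1 : A) n).subtype.rTensor A z) := by
        rw [hz, map_sub, TensorProduct.map_tmul, show f' 1 = (1 : C) from map_one f,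
          ← CoalgHomClass.map_comp_comul_apply f]
        rfl
      rw [e]
      clear e hz
      induction z using TensorProduct.induction_on with
      | zero => simp
      | add p q hp hq =>
        simp only [map_add] at hp hq ⊢
        rw [TensorProduct.tmul_add, ← hp, ← hq]
      | tmul p a =>
        simp only [LinearMap.rTensor_tmul, Submodule.subtype_apply, TensorProduct.map_tmul, f',
          TensorProduct.lid_tmul]
        rw [show (f : A →ₐ[k] C).toLinearMap (p : A) = algebraMap k C (Coalgebra.counit (R := k) (p : A))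
          from ih p p.2, Algebra.algebraMap_eq_smul_one, map_smul, Bialgebra.counit_one, smul_eq_mul, mul_one,
          TensorProduct.smul_tmul]
    rw [map_sub, Coalgebra.rTensor_counit_comul, LinearMap.rTensor_tmul, map_sub,
      TensorProduct.lid_tmul, TensorProduct.lid_tmul, one_smul, TensorProduct.tmul_sub,
      TensorProduct.tmul_smul] at h1
    rw [Algebra.algebraMap_eq_smul_one, Algebra.TensorProduct.one_def]
    linear_combination (norm := abel) h1

variable (k A) in
theorem exists_max_multType :
    ∃ (J : Ideal A) (_ : J.IsHopfIdeal k), SGA3b.IsMultTypeConst k (A ⧸ J) ∧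
      (∀ (I : Ideal A) [I.IsHopfIdeal k], SGA3b.IsMultTypeConst k (A ⧸ I) → J ≤ I) ∧
      ∃ (B : Type u) (_ : CommRing B) (_ : HopfAlgebra k B) (φ : B →ₐc[k] A), Function.Injective φ ∧
        J = Ideal.map (φ : B →+* A) (RingHom.ker (Bialgebra.counitAlgHom k B)) ∧ HopfRep.IsUnipotent k B := by
  let B := comp k A
  let j : B →ₐ[k] A := B.val
  have hj : Function.Injective j := Subtype.val_injective
  letI iB : HopfAlgebra k B :=
    GrpSchLib.HopfTransfer.hopf j hj (fun b => comul_mem_map b) (fun b => antipode_mem_range b)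
  have hcom : ∀ b : B, Algebra.TensorProduct.map j j (Coalgebra.comul (R := k) b) =
      Coalgebra.comul (R := k) (j b) :=
    fun b => GrpSchLib.HopfTransfer.map_comulRes j hj (fun b => comul_mem_map b) b
  let φ : B →ₐc[k] A := BialgHom.ofAlgHom j rfl (AlgHom.ext hcom)
  let J : Ideal A := Ideal.map (φ : B →+* A) (RingHom.ker (Bialgebra.counitAlgHom k B))
  have hJmem : ∀ n, ∀ x ∈ F k (1 : A) n, x - algebraMap k A (Coalgebra.counit (R := k) x) ∈ J := by
    intro n x hx
    let b : B := ⟨x, n, hx⟩
    have hb : b - algebraMap k B (Coalgebra.counit (R := k) x) ∈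
        RingHom.ker (Bialgebra.counitAlgHom k B) := by
      rw [RingHom.mem_ker, map_sub, AlgHom.commutes]
      exact sub_eq_zero.2 rfl
    exact Ideal.mem_map_of_mem (φ : B →+* A) hb
  have hJ : J.IsHopfIdeal k := MultTypeLib.isHopfIdeal_map_ker φ
  refine ⟨J, hJ, ?_, fun I _ hI => ?_, B, inferInstance, iB, φ, hj, rfl, ?_⟩
  · let K := AlgebraicClosure k
    let q : K ⊗[k] A →ₐc[K] K ⊗[k] (A ⧸ J) :=
      Bialgebra.TensorProduct.map (BialgHom.id K K) (Bialgebra.Quotient.mkBialgHom J)
    refine ⟨K, inferInstance, inferInstance, inferInstance, isDiag_of_span fun x => ?_⟩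
    let G := Submodule.span K {g : K ⊗[k] (A ⧸ J) | IsGroupLikeElem K g}
    have hle : (⊤ : Submodule K (K ⊗[k] A)) ≤
        G.comap ((q : K ⊗[k] A →ₐ[K] K ⊗[k] (A ⧸ J))).toLinearMap := by
      refine top_le_iSup_F.trans (iSup₂_le fun g hg => iSup_le fun n => ?_)
      intro v hv
      let h := HopfAlgebraStruct.antipode (R := K) g
      have hhv : h * v ∈ F K (1 : K ⊗[k] A) n := by
        have := mul_groupLike_mem hg.antipode n hv
        rwa [hg.antipode_mul_cancel] at this
      have hsc : ∀ y ∈ (F k (1 : A) n).baseChange K, q y ∈ Submodule.span K {(1 : K ⊗[k] (A ⧸ J))} := by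
        intro y hy
        rw [Submodule.baseChange_eq_span] at hy
        induction hy using Submodule.span_induction with
        | mem y hy =>
          obtain ⟨b, hb, rfl⟩ := hy
          refine Submodule.mem_span_singleton.2 ⟨algebraMap k K (Coalgebra.counit (R := k) b), ?_⟩
          have h1 := Ideal.Quotient.mk_eq_mk_iff_sub_mem b
            (algebraMap k A (Coalgebra.counit (R := k) b)) |>.2 (hJmem n b hb)
          show _ = (1 : K) ⊗ₜ[k] (Ideal.Quotient.mk J b)
          rw [h1, Ideal.Quotient.mk_algebraMap, Algebra.TensorProduct.one_def, algebraMap_smul,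
            Algebra.algebraMap_eq_smul_one, TensorProduct.tmul_smul]
        | zero => simp
        | add p r _ _ hp hr => rw [map_add]; exact add_mem hp hr
        | smul c p _ hp => rw [map_smul]; exact Submodule.smul_mem _ c hp
      obtain ⟨c, hc⟩ := Submodule.mem_span_singleton.1 (hsc _ (F_baseChange_le n hhv))
      show q v ∈ G
      rw [show v = g * (h * v) by rw [← mul_assoc, hg.mul_antipode_cancel, one_mul], map_mul, ← hc,
        mul_smul_comm, mul_one]
      exact G.smul_mem c (Submodule.subset_span (hg.map q))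
    obtain ⟨y, rfl⟩ : ∃ y, q y = x := by
      obtain ⟨y, hy⟩ := LinearMap.lTensor_surjective K
        (g := (Ideal.Quotient.mkₐ k J).toLinearMap) Ideal.Quotient.mk_surjective x
      refine ⟨y, hy ▸ ?_⟩
      clear hy
      induction y using TensorProduct.induction_on with
      | zero => simp
      | add p r hp hr => simp only [map_add, hp, hr]
      | tmul a b => rfl
    exact hle Submodule.mem_top
  · refine Ideal.map_le_iff_le_comap.2 fun b hb => ?_
    obtain ⟨n, hn⟩ := b.2
    show (φ : B →+* A) b ∈ I
    refine Ideal.Quotient.eq_zero_iff_mem.1 ?_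
    rw [show Ideal.Quotient.mk I ((φ : B →+* A) b) = (Bialgebra.Quotient.mkBialgHom (R := k) I) (b : A) from rfl,
      map_mem_comp hI (Bialgebra.Quotient.mkBialgHom (R := k) I) n b hn,
      show Coalgebra.counit (R := k) (b : A) = 0 from hb, map_zero]
  · intro V _ _ _ hfin hnt
    classical
    let ρ := HopfRep.Comod.coact (k := k) (A := B) (V := V)
    let c : Module.Dual k V → V → A := fun ψ v => j (TensorProduct.lid k B (ψ.rTensor B (ρ v)))
    let P : ℕ → Prop := fun n => ∃ v : V, v ≠ 0 ∧ ∀ ψ, c ψ v ∈ F k (1 : A) n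
    have hP : ∃ n, P n := by
      obtain ⟨v, hv⟩ := exists_ne (0 : V)
      obtain ⟨S, hS⟩ := TensorProduct.exists_finset (ρ v)
      choose N hN using fun b : B => b.2
      refine ⟨S.sup fun i => N i.2, v, hv, fun ψ => ?_⟩
      show j (TensorProduct.lid k B (ψ.rTensor B (ρ v))) ∈ _
      rw [hS, map_sum, map_sum, map_sum]
      refine Submodule.sum_mem _ fun i hi => ?_
      rw [LinearMap.rTensor_tmul, TensorProduct.lid_tmul, map_smul]
      exact Submodule.smul_mem _ _ (F_mono _ (Finset.le_sup (f := fun i => N i.2) hi) (hN i.2))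
    obtain ⟨v, hv, hvn⟩ := Nat.find_spec hP
    rw [Submodule.ne_bot_iff]
    refine ⟨v, ?_, hv⟩
    have hzero : ∀ w : V, (∀ ψ, c ψ w ∈ F k (1 : A) 0) → w = 0 := fun w hw => by
      refine (Module.forall_dual_apply_eq_zero_iff k w).1 fun ψ => ?_
      have h0 : TensorProduct.lid k B (ψ.rTensor B (ρ w)) = 0 :=
        hj ((Submodule.mem_bot k).1 (hw ψ) |>.trans (map_zero j).symm)
      have h1 : Coalgebra.counit (R := k) (TensorProduct.lid k B (ψ.rTensor B (ρ w))) =
          ψ (ComodLib.actF (Coalgebra.counit (R := k) (A := B)) w) := by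
        rw [ComodLib.actF_apply]
        show Coalgebra.counit (R := k) (TensorProduct.lid k B (ψ.rTensor B (ρ w))) =
          ψ (ComodLib.slice _ (ρ w))
        generalize ρ w = z
        induction z using TensorProduct.induction_on with
        | zero => simp
        | add p r hp hr => simp only [map_add, hp, hr]
        | tmul p r => simp [mul_comm]
      rw [h0, map_zero, ComodLib.actF_counit] at h1
      exact h1.symm
    cases hn0 : Nat.find hP with
    | zero => exact absurd (hzero v (hn0 ▸ hvn)) hv
    | succ m =>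
      show ρ v = v ⊗ₜ[k] (1 : B)
      refine ComodLib.ext_of_forall_slice_eq fun φB => ?_
      obtain ⟨φA, hφA⟩ : ∃ φA : A →ₗ[k] k, φA ∘ₗ j.toLinearMap = φB := by
        obtain ⟨l, hl⟩ := j.toLinearMap.exists_leftInverse_of_injective (LinearMap.ker_eq_bot.2 hj)
        exact ⟨φB ∘ₗ l, by rw [LinearMap.comp_assoc, hl, LinearMap.comp_id]⟩
      rw [ComodLib.slice_tmul, ← sub_eq_zero]
      by_contra hne
      refine Nat.find_min hP (m := m) (by omega) ⟨_, hne, fun ψ => ?_⟩
      have hshift : shift (1 : A) φA (c ψ v) = c ψ (ComodLib.slice φB (ρ v) - φB 1 • v) := by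
        have hφ1 : φA 1 = φB 1 := by rw [← hφA]; simp
        have hlin : c ψ (ComodLib.slice φB (ρ v) - φB 1 • v) =
            c ψ (ComodLib.slice φB (ρ v)) - φB 1 • c ψ v := by
          simp only [c, map_sub, map_smul]
        rw [hlin]
        show ComodLib.actF φA (c ψ v) - φA 1 • c ψ v = _
        rw [hφ1]
        congr 1
        show ComodLib.slice φA (Coalgebra.comul (R := k) (j (TensorProduct.lid k B (ψ.rTensor B (ρ v))))) =
          j (TensorProduct.lid k B (ψ.rTensor B (ρ (ComodLib.slice φB (ρ v)))))
        rw [← hcom]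
        have hco := LinearMap.congr_fun (HopfRep.Comod.coassoc (k := k) (A := B) (V := V)) v
        simp only [LinearMap.comp_apply, LinearEquiv.coe_coe] at hco
        let T : V ⊗[k] (B ⊗[k] B) →ₗ[k] A := ComodLib.slice φA ∘ₗ
          (Algebra.TensorProduct.map j j).toLinearMap ∘ₗ
            (TensorProduct.lid k (B ⊗[k] B)).toLinearMap ∘ₗ ψ.rTensor (B ⊗[k] B)
        have e1 : ∀ z : V ⊗[k] B, ComodLib.slice φA (Algebra.TensorProduct.map j j
            (Coalgebra.comul (R := k) (TensorProduct.lid k B (ψ.rTensor B z)))) =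
            T ((CoalgebraStruct.comul (R := k) (A := B)).lTensor V z) := by
          intro z
          induction z using TensorProduct.induction_on with
          | zero => simp
          | add p r hp hr => simp only [map_add, hp, hr]
          | tmul p r =>
            simp [T]
            rfl
        have e2 : ∀ z : V ⊗[k] B, T (TensorProduct.assoc k V B B (ρ.rTensor B z)) =
            j (TensorProduct.lid k B (ψ.rTensor B (ρ (ComodLib.slice φB z)))) := by
          intro z
          induction z using TensorProduct.induction_on with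
          | zero => simp
          | add p r hp hr => simp only [map_add, hp, hr]
          | tmul p r =>
            rw [ComodLib.slice_tmul, map_smul, map_smul, map_smul, map_smul, LinearMap.rTensor_tmul]
            generalize ρ p = w
            induction w using TensorProduct.induction_on with
            | zero => simp
            | add p r hp hr => simp only [map_add, TensorProduct.add_tmul, smul_add, hp, hr]
            | tmul p' r' =>
              simp [T, ← hφA, mul_comm, smul_smul]
        rw [e1, ← e2]
        exact congrArg T hco.symm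
      rw [← hshift]
      exact mem_F_succ.1 (hn0 ▸ hvn ψ) φA

end Groth.Agent.UnipComp
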