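import Groth.Agent.ComodLib.Unitriangular
import Mathlib.RingTheory.Bialgebra.Convolution
import Mathlib.RingTheory.HopfAlgebra.Convolution
import Mathlib.RingTheory.FiniteType
import Mathlib.GroupTheory.Nilpotent

/-!
# The group of points of a unipotent Hopf algebra
-/

universe u v w

open TensorProduct
open scoped commutatorElement

namespace Groth.Agent.UnipComp.Points

open Groth.Agent.ComodLib

variable {k : Type u} [Field k] {A : Type v} [CommRing A] [Bialgebra k A]
variable {R : Type w} [CommRing R] [Algebra k R]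

theorem mul_entry {n : ℕ} {M : Fin n → Fin n → A} (hM : IsUniMatrix k M) (f g : WithConv (A →ₐ[k] R))
    (i j : Fin n) : (f * g) (M i j) = ∑ l, f (M i l) * g (M l j) := by
  rw [AlgHom.convMul_apply, show CoalgebraStruct.comul (R := k) (M i j) = _ from hM.2 i j, map_sum]
  simp

theorem one_entry {n : ℕ} {M : Fin n → Fin n → A} (hM : IsUniMatrix k M) {i j : Fin n} (h : j ≤ i)
    (f : A →ₐ[k] R) : f (M i j) = if i = j then 1 else 0 := by
  rw [hM.1 i j h]
  split <;> simp

/-- `f` and `g` agree on the entries of level at most `r`. -/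
def AgreeOn (r : ℕ) (f g : WithConv (A →ₐ[k] R)) : Prop :=
  ∀ a ∈ uniLevel k A r, f a = g a

theorem agreeOn_iff {r : ℕ} {f g : WithConv (A →ₐ[k] R)} :
    AgreeOn r f g ↔ ∀ (n : ℕ) (M : Fin n → Fin n → A) (i j : Fin n),
      IsUniMatrix k M → (j : ℕ) ≤ (i : ℕ) + r → f (M i j) = g (M i j) := by
  refine ⟨fun h n M i j hM hl => h _ (mem_uniLevel hM hl), fun h a ha => ?_⟩
  induction ha using Submodule.span_induction with
  | mem x hx =>
    obtain ⟨n, M, i, j, hM, hl, rfl⟩ := hx
    exact h n M i j hM hl
  | zero => simp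
  | add x y _ _ hx hy => simp [map_add, hx, hy]
  | smul c x _ hx => simp [map_smul, hx]

theorem AgreeOn.mul_right {r : ℕ} {f f' : WithConv (A →ₐ[k] R)} (h : AgreeOn r f f')
    (g : WithConv (A →ₐ[k] R)) : AgreeOn r (f * g) (f' * g) := by
  rw [agreeOn_iff]
  intro n M i j hM hl
  rw [mul_entry hM, mul_entry hM]
  refine Finset.sum_congr rfl fun l _ => ?_
  by_cases hlj : (l : ℕ) ≤ j
  · rw [agreeOn_iff.mp h n M i l hM (by omega)]
  · rw [one_entry hM (i := l) (j := j) (by rw [Fin.le_def]; omega) g.ofConv |>.trans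
      (if_neg fun e => by subst e; omega), mul_zero, mul_zero]

theorem counit_entry {n : ℕ} {M : Fin n → Fin n → A} (hM : IsUniMatrix k M) (a b : Fin n) :
    CoalgebraStruct.counit (R := k) (M a b) = if a = b then 1 else 0 := by
  have hid : ∀ i j : Fin n, CoalgebraStruct.counit (R := k) (M i j) =
      ∑ l, CoalgebraStruct.counit (R := k) (M i l) * CoalgebraStruct.counit (R := k) (M l j) := fun i j => by
    have := congrArg (TensorProduct.lid k k ∘ (CoalgebraStruct.counit (R := k) (A := A)).lTensor k)
      (Coalgebra.rTensor_counit_comul (R := k) (M i j))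
    rw [show CoalgebraStruct.comul (R := k) (M i j) = _ from hM.2 i j] at this
    simpa using this.symm
  have main : ∀ (d : ℕ) (i j : Fin n), (j : ℕ) ≤ i + d →
      CoalgebraStruct.counit (R := k) (M i j) = if i = j then 1 else 0 := by
    intro d
    induction d with
    | zero =>
      intro i j h
      rw [hM.1 i j (Fin.le_def.mpr (by omega))]
      split <;> simp
    | succ d ih =>
      intro i j h
      by_cases h' : (j : ℕ) ≤ i + d
      · exact ih i j h'
      have hne : i ≠ j := fun e => by subst e; omega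
      rw [if_neg hne]
      have h2 := hid i j
      rw [← Finset.sum_subset (Finset.subset_univ ({i, j} : Finset (Fin n))) fun l _ hl' => ?_] at h2
      · rw [Finset.sum_pair hne, ih i i (by omega), if_pos rfl, ih j j (by omega), if_pos rfl,
          one_mul, mul_one] at h2
        simpa using h2
      · simp only [Finset.mem_insert, Finset.mem_singleton, not_or] at hl'
        have : (l : ℕ) ≠ i := fun e => hl'.1 (Fin.ext e)
        by_cases hlj : (l : ℕ) ≤ i + d
        · rw [ih i l hlj, if_neg (Ne.symm hl'.1), zero_mul]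
        · rw [ih l j (by omega), if_neg hl'.2, mul_zero]
  exact main (b : ℕ) a b (by omega)

theorem AgreeOn.entry {r : ℕ} {f : WithConv (A →ₐ[k] R)} (h : AgreeOn r f 1)
    (g : WithConv (A →ₐ[k] R)) {n : ℕ} {M : Fin n → Fin n → A} (hM : IsUniMatrix k M) {i j : Fin n}
    (hl : (j : ℕ) ≤ (i : ℕ) + (r + 1)) (hij : ¬ (j : ℕ) ≤ i) :
    (f * g) (M i j) = f (M i j) + g (M i j) ∧ (g * f) (M i j) = f (M i j) + g (M i j) := by
  rw [mul_entry hM, mul_entry hM]
  have hf : ∀ a b : Fin n, (b : ℕ) ≤ a + r → f (M a b) = if a = b then 1 else 0 := fun a b hab => by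
    rw [agreeOn_iff.mp h n M a b hM hab, AlgHom.convOne_apply]
    by_cases hba : (b : ℕ) ≤ a
    · rw [hM.1 a b (Fin.le_def.mpr hba)]
      split <;> simp
    · rw [if_neg (fun e => by subst e; omega)]
      have := counit_entry hM a b
      rw [this, if_neg (fun e => by subst e; omega), map_zero]
  have e1 : ∑ l, f (M i l) * g (M l j) = g (M i j) + f (M i j) := by
    rw [← Finset.sum_subset (Finset.subset_univ ({i, j} : Finset (Fin n))) fun l _ hl' => ?_]
    · rw [Finset.sum_pair (fun e => by subst e; omega), hf i i (by omega), if_pos rfl, one_mul,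
        one_entry hM le_rfl g.ofConv, if_pos rfl, mul_one]
    · simp only [Finset.mem_insert, Finset.mem_singleton, not_or] at hl'
      by_cases hlj : (l : ℕ) ≤ j
      · by_cases hil : (i : ℕ) ≤ l
        · rw [hf i l (by have : (l : ℕ) ≠ j := fun e => hl'.2 (Fin.ext e); omega),
            if_neg (Ne.symm hl'.1), zero_mul]
        · rw [one_entry hM (i := i) (j := l) (by rw [Fin.le_def]; omega) f.ofConv,
            if_neg (Ne.symm hl'.1), zero_mul]
      · rw [one_entry hM (i := l) (j := j) (by rw [Fin.le_def]; omega) g.ofConv,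
          if_neg hl'.2, mul_zero]
  have e2 : ∑ l, g (M i l) * f (M l j) = f (M i j) + g (M i j) := by
    rw [← Finset.sum_subset (Finset.subset_univ ({i, j} : Finset (Fin n))) fun l _ hl' => ?_]
    · rw [Finset.sum_pair (fun e => by subst e; omega), hf j j (by omega), if_pos rfl, mul_one,
        one_entry hM le_rfl g.ofConv, if_pos rfl, one_mul]
    · simp only [Finset.mem_insert, Finset.mem_singleton, not_or] at hl'
      by_cases hil : (i : ℕ) ≤ l
      · by_cases hlj : (l : ℕ) ≤ j
        · rw [hf l j (by have : (l : ℕ) ≠ i := fun e => hl'.1 (Fin.ext e); omega),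
            if_neg hl'.2, mul_zero]
        · rw [one_entry hM (i := l) (j := j) (by rw [Fin.le_def]; omega) f.ofConv,
            if_neg hl'.2, mul_zero]
      · rw [one_entry hM (i := i) (j := l) (by rw [Fin.le_def]; omega) g.ofConv,
          if_neg (Ne.symm hl'.1), zero_mul]
  exact ⟨e1.trans (add_comm _ _), e2⟩

theorem AgreeOn.comm {r : ℕ} {f : WithConv (A →ₐ[k] R)} (h : AgreeOn r f 1)
    (g : WithConv (A →ₐ[k] R)) : AgreeOn (r + 1) (f * g) (g * f) := by
  rw [agreeOn_iff]
  intro n M i j hM hl
  rw [mul_entry hM, mul_entry hM]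
  by_cases hij : (j : ℕ) ≤ i
  · have : ∀ p q : A →ₐ[k] R, (∑ l, p (M i l) * q (M l j)) = if i = j then 1 else 0 := fun p q => by
      rw [Finset.sum_eq_single i]
      · rw [one_entry hM le_rfl p, one_entry hM (Fin.le_def.mpr hij) q, if_pos rfl, one_mul]
      · intro l _ hne
        rcases lt_or_gt_of_ne hne with hlt | hgt
        · rw [one_entry hM hlt.le p, if_neg (Ne.symm hne), zero_mul]
        · rw [one_entry hM (i := l) (j := j) (by rw [Fin.le_def]; omega) q,
            if_neg (fun e => by subst e; omega), mul_zero]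
      · simp
    exact (this f.ofConv g.ofConv).trans (this g.ofConv f.ofConv).symm
  · rw [← mul_entry hM, ← mul_entry hM, (h.entry g hM hl hij).1, (h.entry g hM hl hij).2]

section Hopf

variable {k : Type u} [Field k] {A : Type v} [CommRing A] [HopfAlgebra k A]

variable (k A) in
/-- The points congruent to the identity at level `r`. -/
def level (r : ℕ) : Subgroup (WithConv (A →ₐ[k] k)) where
  carrier := {f | AgreeOn r f 1}
  one_mem' := fun _ _ => rfl
  mul_mem' := fun {f g} hf hg a ha => by
    rw [(hf.mul_right g) a ha, one_mul]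
    exact hg a ha
  inv_mem' := fun {f} hf a ha => by
    have := (hf.mul_right f⁻¹) a ha
    rw [mul_inv_cancel, one_mul] at this
    exact this.symm

theorem isNilpotent_points [Algebra.FiniteType k A] (hU : HopfRep.IsUnipotent k A) :
    Group.IsNilpotent (WithConv (A →ₐ[k] k)) := by
  classical
  obtain ⟨s, hs⟩ := Algebra.FiniteType.out (R := k) (A := A)
  have hex : ∀ a : A, ∃ r, a ∈ uniLevel k A r := fun a =>
    (Submodule.mem_iSup_of_directed _ (uniLevel_mono (k := k) (A := A)).directed_le).mp
      (iSup_uniLevel_eq_top hU ▸ Submodule.mem_top : a ∈ ⨆ r, uniLevel k A r)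
  choose r hr using hex
  refine (Subgroup.nilpotent_iff_finite_descending_central_series (G := WithConv (A →ₐ[k] k))).mpr ⟨s.sup r + 1,
    fun m => match m with | 0 => ⊤ | m + 1 => level k A m, ⟨rfl, fun x m hx g => ?_⟩, ?_⟩
  · match m with
    | 0 =>
      show AgreeOn 0 _ 1
      intro a ha
      rw [uniLevel_zero, Submodule.mem_span_singleton] at ha
      obtain ⟨c, rfl⟩ := ha
      simp
    | m + 1 =>
      show AgreeOn (m + 1) ⁅x, g⁆ 1
      have := (AgreeOn.comm hx g).mul_right (x⁻¹ * g⁻¹)
      rwa [show g * x * (x⁻¹ * g⁻¹) = 1 by group,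
        show x * g * (x⁻¹ * g⁻¹) = ⁅x, g⁆ by rw [commutatorElement_def]; group] at this
  · show level k A (s.sup r) = ⊥
    refine (Subgroup.eq_bot_iff_forall _).mpr fun f hf => WithConv.ofConv_injective ?_
    refine AlgHom.ext_of_adjoin_eq_top hs fun a ha => ?_
    exact hf a (uniLevel_mono (Finset.le_sup (by simpa using ha)) (hr a))

end Hopf

end Groth.Agent.UnipComp.Points
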