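import Groth.Agent.ComodLib.Basic
import Groth.Agent.ComodLib.Antipode
import Mathlib.RingTheory.HopfAlgebra.GroupLike
import Mathlib.RingTheory.Bialgebra.GroupLike
import Mathlib.Algebra.Algebra.Operations

/-!
# The filtration of a cocommutative Hopf algebra at a group-like element
-/

universe u

open TensorProduct WithConv

namespace Groth.Agent.UnipComp

open ComodLib

/-- The regular comodule. -/
@[reducible] noncomputable def regComod (k : Type u) [CommRing k] (A : Type u) [AddCommGroup A]
    [Module k A] [Coalgebra k A] : HopfRep.Comod k A A where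
  coact := Coalgebra.comul
  coassoc := Coalgebra.coassoc
  counit_comp := Coalgebra.lTensor_counit_comp_comul

attribute [local instance] regComod

variable {k : Type u} [Field k] {A : Type u} [CommRing A] [Bialgebra k A]

/-- `actF φ - φ(g)`. -/
noncomputable def shift (g : A) (φ : A →ₗ[k] k) : A →ₗ[k] A := actF φ - φ g • LinearMap.id

theorem shift_eq_slice (g : A) (φ : A →ₗ[k] k) (x : A) :
    shift g φ x = slice φ (Coalgebra.comul (R := k) x - x ⊗ₜ[k] g) := by
  rw [map_sub, slice_tmul]
  rfl

variable (k) in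
/-- The socle filtration at `g`. -/
noncomputable def F (g : A) : ℕ → Submodule k A
  | 0 => ⊥
  | n + 1 => ⨅ φ : A →ₗ[k] k, (F g n).comap (shift g φ)

theorem mem_F_succ {g : A} {n : ℕ} {x : A} :
    x ∈ F k g (n + 1) ↔ ∀ φ : A →ₗ[k] k, shift g φ x ∈ F k g n := by
  simp [F, Submodule.mem_iInf]

theorem mem_F_succ_iff_range {g : A} {n : ℕ} {x : A} :
    x ∈ F k g (n + 1) ↔ Coalgebra.comul (R := k) x - x ⊗ₜ[k] g ∈
      LinearMap.range ((F k g n).subtype.rTensor A) := by
  rw [mem_range_rTensor_subtype_iff, mem_F_succ]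
  simp only [shift_eq_slice]

variable [Coalgebra.IsCocomm k A]

theorem convMul_comm (φ ψ : A →ₗ[k] k) :
    (toConv φ * toConv ψ).ofConv = (toConv ψ * toConv φ).ofConv := by
  ext a
  simp only [LinearMap.convMul_apply, ofConv_toConv]
  conv_rhs => rw [← Coalgebra.comm_comul k a]
  generalize Coalgebra.comul (R := k) a = z
  induction z using TensorProduct.induction_on with
  | zero => simp
  | add p q hp hq => simp only [map_add, hp, hq]
  | tmul p q => simp [mul_comm]

theorem actF_comm (φ ψ : A →ₗ[k] k) (x : A) :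
    actF φ (actF ψ x) = actF ψ (actF φ x) := by
  rw [← actF_convMul (toConv φ) (toConv ψ), ← actF_convMul (toConv ψ) (toConv φ), convMul_comm]

theorem actF_shift (g : A) (φ ψ : A →ₗ[k] k) (x : A) :
    actF ψ (shift g φ x) = shift g φ (actF ψ x) := by
  simp only [shift, LinearMap.sub_apply, LinearMap.smul_apply, LinearMap.id_apply, map_sub, map_smul,
    actF_comm]

theorem actF_mem_F (g : A) (n : ℕ) (ψ : A →ₗ[k] k) :
    ∀ x ∈ F k g n, actF ψ x ∈ F k g n := by
  induction n with
  | zero => intro x hx; rw [show x = 0 from (Submodule.mem_bot k).1 hx, map_zero]; exact zero_mem _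
  | succ n ih =>
    intro x hx
    rw [mem_F_succ] at hx ⊢
    intro φ
    rw [← actF_shift]
    exact ih _ (hx φ)

theorem shift_mem_F (g h : A) (n : ℕ) (φ : A →ₗ[k] k) {x : A} (hx : x ∈ F k g n) :
    shift h φ x ∈ F k g n :=
  sub_mem (actF_mem_F g n φ x hx) ((F k g n).smul_mem _ hx)

theorem F_mono (g : A) : Monotone (F k g) :=
  monotone_nat_of_le_succ fun n _ hx => mem_F_succ.2 fun φ => shift_mem_F g g n φ hx

theorem comul_mem_range (g : A) (n : ℕ) {x : A} (hx : x ∈ F k g n) :
    Coalgebra.comul (R := k) x ∈ LinearMap.range ((F k g n).subtype.rTensor A) :=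
  (mem_range_rTensor_subtype_iff _ _).2 fun φ => actF_mem_F g n φ x hx

theorem one_mem_F : (1 : A) ∈ F k (1 : A) 1 := by
  rw [mem_F_succ_iff_range, Bialgebra.comul_one, Algebra.TensorProduct.one_def, sub_self]
  exact zero_mem _

theorem eq_counit_of_mem_F_one {x : A} (hx : x ∈ F k (1 : A) 1) :
    x = algebraMap k A (Coalgebra.counit (R := k) x) := by
  obtain ⟨z, hz⟩ := mem_F_succ_iff_range.1 hx
  have h0 : Coalgebra.comul (R := k) x = x ⊗ₜ[k] (1 : A) := by
    rw [← sub_eq_zero, ← hz]
    clear hz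
    induction z using TensorProduct.induction_on with
    | zero => simp
    | add p q hp hq => simp only [map_add, hp, hq, add_zero]
    | tmul p q => simp [show (p : A) = 0 from (Submodule.mem_bot k).1 p.2]
  have h := Coalgebra.rTensor_counit_comul (R := k) x
  rw [h0, LinearMap.rTensor_tmul] at h
  have h2 := congrArg (TensorProduct.lid k A) h
  simp only [TensorProduct.lid_tmul, one_smul] at h2
  rw [Algebra.algebraMap_eq_smul_one, h2]

theorem range_rTensor_mono {V V' : Submodule k A} (h : V ≤ V') {C : Type u} [AddCommGroup C]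
    [Module k C] {z : A ⊗[k] C} (hz : z ∈ LinearMap.range (V.subtype.rTensor C)) :
    z ∈ LinearMap.range (V'.subtype.rTensor C) := by
  obtain ⟨w, rfl⟩ := hz
  exact ⟨(Submodule.inclusion h).rTensor C w, by
    rw [← LinearMap.rTensor_comp_apply, Submodule.subtype_comp_inclusion]⟩

theorem mul_mem_range {V V' W : Submodule k A} (h : V * V' ≤ W) {z z' : A ⊗[k] A}
    (hz : z ∈ LinearMap.range (V.subtype.rTensor A)) (hz' : z' ∈ LinearMap.range (V'.subtype.rTensor A)) :
    z * z' ∈ LinearMap.range (W.subtype.rTensor A) := by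
  obtain ⟨w, rfl⟩ := hz
  obtain ⟨w', rfl⟩ := hz'
  induction w using TensorProduct.induction_on with
  | zero => simp
  | add p q hp hq => rw [map_add, add_mul]; exact add_mem hp hq
  | tmul p a =>
    induction w' using TensorProduct.induction_on with
    | zero => simp
    | add r s hr hs => rw [map_add, mul_add]; exact add_mem hr hs
    | tmul r b =>
      exact ⟨(⟨(p : A) * r, h (Submodule.mul_mem_mul p.2 r.2)⟩ : W) ⊗ₜ (a * b), by simp⟩

theorem tmul_mem_range {V : Submodule k A} {x : A} (hx : x ∈ V) (a : A) :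
    x ⊗ₜ[k] a ∈ LinearMap.range (V.subtype.rTensor A) :=
  ⟨(⟨x, hx⟩ : V) ⊗ₜ a, rfl⟩

theorem F_mul_F_le : ∀ s m n : ℕ, m + n = s → F k (1 : A) m * F k (1 : A) n ≤ F k (1 : A) s := by
  intro s
  induction s using Nat.strong_induction_on with
  | _ s ih =>
    intro m n hs
    rw [Submodule.mul_le]
    intro x hx y hy
    match m, n with
    | 0, n => rw [show x = 0 from (Submodule.mem_bot k).1 hx, zero_mul]; exact zero_mem _
    | m + 1, 0 => rw [show y = 0 from (Submodule.mem_bot k).1 hy, mul_zero]; exact zero_mem _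
    | m + 1, n + 1 =>
      obtain ⟨t, rfl⟩ : ∃ t, s = t + 1 := ⟨s - 1, by omega⟩
      have h1 : F k (1 : A) m * F k (1 : A) (n + 1) ≤ F k (1 : A) t :=
        ih t (by omega) m (n + 1) (by omega)
      have h2 : F k (1 : A) (m + 1) * F k (1 : A) n ≤ F k (1 : A) t :=
        ih t (by omega) (m + 1) n (by omega)
      rw [mem_F_succ_iff_range, Bialgebra.comul_mul]
      have e : Coalgebra.comul (R := k) x * Coalgebra.comul (R := k) y - (x * y) ⊗ₜ[k] (1 : A) =
          (Coalgebra.comul (R := k) x - x ⊗ₜ[k] (1 : A)) * Coalgebra.comul (R := k) y +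
            (x ⊗ₜ[k] (1 : A)) * (Coalgebra.comul (R := k) y - y ⊗ₜ[k] (1 : A)) := by
        rw [sub_mul, mul_sub, Algebra.TensorProduct.tmul_mul_tmul, mul_one]
        abel
      rw [e]
      exact add_mem (mul_mem_range h1 (mem_F_succ_iff_range.1 hx) (comul_mem_range _ _ hy))
        (mul_mem_range h2 (tmul_mem_range hx _) (mem_F_succ_iff_range.1 hy))

theorem mul_mem_F {m n : ℕ} {x y : A} (hx : x ∈ F k (1 : A) m) (hy : y ∈ F k (1 : A) n) :
    x * y ∈ F k (1 : A) (m + n) :=
  F_mul_F_le (m + n) m n rfl (Submodule.mul_mem_mul hx hy)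

theorem mul_groupLike_mem {g h : A} (hh : IsGroupLikeElem k h) (n : ℕ) :
    ∀ {x : A}, x ∈ F k g n → h * x ∈ F k (h * g) n := by
  induction n with
  | zero => intro x hx; rw [show x = 0 from (Submodule.mem_bot k).1 hx, mul_zero]; exact zero_mem _
  | succ n ih =>
    intro x hx
    rw [mem_F_succ_iff_range] at hx ⊢
    rw [Bialgebra.comul_mul, hh.comul_eq_tmul_self, show (h * x) ⊗ₜ[k] (h * g) =
      (h ⊗ₜ[k] h) * (x ⊗ₜ[k] g) by simp, ← mul_sub]
    obtain ⟨z, hz⟩ := hx
    rw [← hz]
    clear hz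
    induction z using TensorProduct.induction_on with
    | zero => simp
    | add p q hp hq => rw [map_add, mul_add]; exact add_mem hp hq
    | tmul p a =>
      exact ⟨(⟨h * p, ih p.2⟩ : F k (h * g) n) ⊗ₜ (h * a), by simp⟩

variable (k A) in
/-- The union of the filtration at the unit. -/
noncomputable def comp : Subalgebra k A where
  carrier := {x | ∃ n, x ∈ F k (1 : A) n}
  mul_mem' := fun ⟨m, hm⟩ ⟨n, hn⟩ => ⟨m + n, mul_mem_F hm hn⟩
  add_mem' := fun ⟨m, hm⟩ ⟨n, hn⟩ =>
    ⟨max m n, add_mem (F_mono _ (le_max_left m n) hm) (F_mono _ (le_max_right m n) hn)⟩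
  algebraMap_mem' := fun r => ⟨1, by
    rw [Algebra.algebraMap_eq_smul_one]; exact (F k _ 1).smul_mem r one_mem_F⟩

theorem mem_comp {x : A} : x ∈ comp k A ↔ ∃ n, x ∈ F k (1 : A) n := Iff.rfl

theorem comul_mem_map (b : comp k A) :
    Coalgebra.comul (R := k) (b : A) ∈
      (Algebra.TensorProduct.map (comp k A).val (comp k A).val).range := by
  obtain ⟨n, hn⟩ := b.2
  let V := F k (1 : A) n
  obtain ⟨p, hp⟩ := V.subtype.exists_leftInverse_of_injective V.ker_subtype
  have h1 : (V.subtype ∘ₗ p).rTensor A (Coalgebra.comul (R := k) (b : A)) =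
      Coalgebra.comul (R := k) (b : A) := by
    obtain ⟨z, hz⟩ := comul_mem_range (k := k) (1 : A) n hn
    rw [← hz, ← LinearMap.rTensor_comp_apply, LinearMap.comp_assoc, hp, LinearMap.comp_id]
  have h2 : (V.subtype ∘ₗ p).lTensor A (Coalgebra.comul (R := k) (b : A)) =
      Coalgebra.comul (R := k) (b : A) := by
    conv_rhs => rw [← Coalgebra.comm_comul k (b : A), ← h1]
    conv_lhs => rw [← Coalgebra.comm_comul k (b : A)]
    exact LinearMap.congr_fun (LinearMap.lTensor_comp_comm ..) _
  have h3 := h2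
  rw [← h1, ← LinearMap.comp_apply, LinearMap.lTensor_comp_rTensor, h1] at h3
  rw [← h3]
  generalize Coalgebra.comul (R := k) (b : A) = z
  induction z using TensorProduct.induction_on with
  | zero => simp
  | add u v hu hv => rw [map_add]; exact add_mem hu hv
  | tmul u v =>
    exact ⟨(⟨(p u : A), n, (p u).2⟩ : comp k A) ⊗ₜ (⟨(p v : A), n, (p v).2⟩ : comp k A), rfl⟩

section Antipode

variable {H : Type u} [CommRing H] [HopfAlgebra k H] [Coalgebra.IsCocomm k H]

theorem antipode_mem_F (n : ℕ) :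
    ∀ {x : H}, x ∈ F k (1 : H) n → HopfAlgebraStruct.antipode (R := k) x ∈ F k (1 : H) n := by
  induction n with
  | zero => intro x hx; rw [show x = 0 from (Submodule.mem_bot k).1 hx, map_zero]; exact zero_mem _
  | succ n ih =>
    intro x hx
    rw [mem_F_succ_iff_range] at hx ⊢
    obtain ⟨z, hz⟩ := hx
    have e : Coalgebra.comul (R := k) (HopfAlgebraStruct.antipode (R := k) x) -
        HopfAlgebraStruct.antipode (R := k) x ⊗ₜ[k] (1 : H) =
        TensorProduct.map (HopfAlgebraStruct.antipode (R := k)) (HopfAlgebraStruct.antipode (R := k))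
          (Coalgebra.comul (R := k) x - x ⊗ₜ[k] (1 : H)) := by
      rw [map_sub, TensorProduct.map_tmul, HopfAlgebra.antipode_one,
        ComodLib.comul_antipode, Coalgebra.comm_comul]
    rw [e, ← hz]
    clear e hz
    induction z using TensorProduct.induction_on with
    | zero => simp
    | add p q hp hq => rw [map_add, map_add]; exact add_mem hp hq
    | tmul p a =>
      exact ⟨(⟨_, ih p.2⟩ : F k (1 : H) n) ⊗ₜ (HopfAlgebraStruct.antipode (R := k) a), by simp⟩

theorem antipode_mem_range (b : comp k H) :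
    HopfAlgebraStruct.antipode (R := k) (b : H) ∈ (comp k H).val.range := by
  obtain ⟨n, hn⟩ := b.2
  exact ⟨⟨_, n, antipode_mem_F n hn⟩, rfl⟩

end Antipode

end Groth.Agent.UnipComp
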