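import Groth.Agent.UnipComp.Filt
import Mathlib.LinearAlgebra.Eigenspace.Pi
import Mathlib.LinearAlgebra.Eigenspace.Triangularizable
import Mathlib.LinearAlgebra.Dual.Lemmas

/-!
Over an algebraically closed field the filtrations at the group-likes exhaust a cocommutative Hopf algebra.
-/

universe u

open TensorProduct WithConv

namespace Groth.Agent.UnipComp

open ComodLib

attribute [local instance] regComod

/-- Commuting nilpotent operators: a stable finite subspace lies in every `M` closed under "all images in `M`". -/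
theorem le_of_nilpotent {k V : Type*} [Field k] [AddCommGroup V] [Module k V] {ι : Type*}
    (N : ι → Module.End k V) (hN : ∀ i j x, N i (N j x) = N j (N i x)) (M : Submodule k V) :
    ∀ (n : ℕ) (U : Submodule k V), Module.Finite k U → Module.finrank k U = n →
      (∀ i, ∀ x ∈ U, N i x ∈ U) → (∀ i, ∀ x ∈ U, ∃ m : ℕ, (N i ^ m) x = 0) →
      (∀ x ∈ U, (∀ i, N i x ∈ M) → x ∈ M) → U ≤ M := by
  intro n
  induction n using Nat.strong_induction_on with
  | _ n ih =>
    intro U hUf hUn hst hnil hM x hx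
    by_cases hx0 : x = 0
    · exact hx0 ▸ M.zero_mem
    refine hM x hx fun i => ?_
    let U' := U.map (N i)
    have hU' : U' ≤ U := by
      rintro _ ⟨y, hy, rfl⟩
      exact hst i y hy
    have hne : U' ≠ U := by
      intro h
      obtain ⟨s, hs⟩ := Module.Finite.iff_fg.1 hUf
      choose! m hm using hnil i
      have hkill : ∀ y ∈ U, (N i ^ s.sup m) y = 0 := by
        have : Submodule.span k (s : Set V) ≤ LinearMap.ker (N i ^ s.sup m) := Submodule.span_le.2 fun y hy => by
          have hyU : y ∈ U := hs ▸ Submodule.subset_span hy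
          obtain ⟨d, hd⟩ := Nat.exists_eq_add_of_le (Finset.le_sup (f := m) hy)
          show (N i ^ s.sup m) y = 0
          rw [hd, add_comm, pow_add, Module.End.mul_apply, hm y hyU, map_zero]
        exact fun y hy => this (hs.symm ▸ hy)
      have hall : ∀ p : ℕ, ∀ y ∈ U, ∃ z ∈ U, (N i ^ p) z = y := by
        intro p
        induction p with
        | zero => exact fun y hy => ⟨y, hy, rfl⟩
        | succ p ihp =>
          intro y hy
          obtain ⟨z, hz, hzy⟩ := ihp y hy
          obtain ⟨w, hw, hwz⟩ : z ∈ U' := h.symm ▸ hz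
          exact ⟨w, hw, by rw [pow_succ, Module.End.mul_apply, hwz, hzy]⟩
      obtain ⟨z, hz, hzx⟩ := hall (s.sup m) x hx
      exact hx0 (by rw [← hzx, hkill z hz])
    have : Module.Finite k U' := Submodule.finiteDimensional_of_le hU'
    have hlt : Module.finrank k U' < n := hUn ▸ Submodule.finrank_lt_finrank_of_lt (lt_of_le_of_ne hU' hne)
    refine ih _ hlt U' inferInstance rfl ?_ (fun j y hy => hnil j y (hU' hy))
      (fun y hy => hM y (hU' hy)) ⟨x, hx, rfl⟩
    rintro j _ ⟨y, hy, rfl⟩
    exact ⟨N j y, hst j y hy, (hN j i y).symm⟩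

variable {k : Type u} [Field k] [IsAlgClosed k] {A : Type u} [CommRing A] [HopfAlgebra k A]
  [Coalgebra.IsCocomm k A]

/-- Every element is a sum of elements in filtrations at group-likes. -/
theorem top_le_iSup_F :
    (⊤ : Submodule k A) ≤ ⨆ (g : A) (_ : IsGroupLikeElem k g) (n : ℕ), F k g n := by
  classical
  intro x _
  obtain ⟨W, hWf, hxW, hW⟩ := ComodLib.exists_finite_subcomod_mem (C := A) (k := k) x
  let T := ⨆ (g : A) (_ : IsGroupLikeElem k g) (n : ℕ), F k g n
  suffices W ≤ T from this hxW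
  let f : (A →ₗ[k] k) → Module.End k W := fun φ =>
    LinearMap.restrict (actF φ) fun y hy => subcomod_actF_mem hW φ hy
  have hcomm : Pairwise fun i j => Commute (f i) (f j) := fun i j _ => by
    apply LinearMap.ext
    intro y
    exact Subtype.ext (actF_comm i j y)
  have htop := Module.End.iSup_iInf_maxGenEigenspace_eq_top_of_iSup_maxGenEigenspace_eq_top_of_commute
    f hcomm fun φ => Module.End.iSup_maxGenEigenspace_eq_top (f φ)
  suffices hχ : ∀ χ : (A →ₗ[k] k) → k, (⨅ φ, (f φ).maxGenEigenspace (χ φ)).map W.subtype ≤ T by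
    intro y hy
    have hy' : (⟨y, hy⟩ : W) ∈ (⨆ χ : (A →ₗ[k] k) → k, ⨅ φ, (f φ).maxGenEigenspace (χ φ)) :=
      htop ▸ Submodule.mem_top
    have := Submodule.mem_map_of_mem (f := W.subtype) hy'
    rw [Submodule.map_iSup] at this
    exact (iSup_le hχ : _ ≤ T) this
  intro χ
  let U := (⨅ φ, (f φ).maxGenEigenspace (χ φ)).map W.subtype
  let N : (A →ₗ[k] k) → Module.End k A := fun φ => actF φ - χ φ • LinearMap.id
  have hUf : Module.Finite k U := Module.Finite.map _ _
  have hN : ∀ i j y, N i (N j y) = N j (N i y) := by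
    intro i j y
    simp only [N, LinearMap.sub_apply, LinearMap.smul_apply, LinearMap.id_apply, map_sub, map_smul,
      actF_comm i j y]
    module
  have hpow : ∀ (φ : A →ₗ[k] k) (m : ℕ) (y : W),
      (N φ ^ m) (y : A) = (((f φ - χ φ • 1) ^ m) y : W) := by
    intro φ m
    induction m with
    | zero => intro y; rfl
    | succ m ihm =>
      intro y
      rw [pow_succ, pow_succ, Module.End.mul_apply, Module.End.mul_apply, ← ihm]
      rfl
  have hnil : ∀ i, ∀ y ∈ U, ∃ m : ℕ, (N i ^ m) y = 0 := by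
    rintro i _ ⟨y, hy, rfl⟩
    obtain ⟨m, hm⟩ := (Module.End.mem_maxGenEigenspace _ _ _).1 ((Submodule.mem_iInf _).1 hy i)
    exact ⟨m, by rw [Submodule.subtype_apply, hpow, hm]; rfl⟩
  have hst : ∀ i, ∀ y ∈ U, N i y ∈ U := by
    rintro i _ ⟨y, hy, rfl⟩
    refine ⟨f i y - χ i • y, sub_mem ((Submodule.mem_iInf _).2 fun j => ?_) (Submodule.smul_mem _ _ hy), rfl⟩
    rcases eq_or_ne i j with rfl | h
    · exact Module.End.mapsTo_maxGenEigenspace_of_comm rfl _ ((Submodule.mem_iInf _).1 hy i)
    · exact Module.End.mapsTo_maxGenEigenspace_of_comm (hcomm h.symm) _ ((Submodule.mem_iInf _).1 hy j)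
  by_cases hv : ∀ y ∈ U, (∀ i, N i y = 0) → y = 0
  · exact (le_of_nilpotent N hN ⊥ _ U hUf rfl hst hnil
      fun y hy h => hv y hy fun i => (Submodule.mem_bot k).1 (h i)).trans bot_le
  push Not at hv
  obtain ⟨v, -, hv, hv0⟩ := hv
  obtain ⟨ψ₀, hψ₀⟩ : ∃ ψ₀ : A →ₗ[k] k, ψ₀ v = 1 := by
    obtain ⟨η, hη⟩ : ∃ η : A →ₗ[k] k, η v ≠ 0 := by
      by_contra h
      push Not at h
      exact hv0 ((Module.forall_dual_apply_eq_zero_iff k v).1 h)
    exact ⟨(η v)⁻¹ • η, by simp [hη]⟩
  let c : A := TensorProduct.lid k A (ψ₀.rTensor A (Coalgebra.comul (R := k) v))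
  have hact : ∀ φ, actF φ v = χ φ • v := fun φ => sub_eq_zero.1 (hv φ)
  have hsl : ∀ φ : A →ₗ[k] k, φ c = χ φ := by
    intro φ
    have e : ∀ z : A ⊗[k] A, φ (TensorProduct.lid k A (ψ₀.rTensor A z)) = ψ₀ (slice φ z) := by
      intro z
      induction z using TensorProduct.induction_on with
      | zero => simp
      | add p q hp hq => simp only [map_add, hp, hq]
      | tmul p q => simp [mul_comm]
    show φ (TensorProduct.lid k A _) = _
    rw [e]
    show ψ₀ (actF φ v) = _
    rw [hact, map_smul, hψ₀, smul_eq_mul, mul_one]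
  have hΔ : Coalgebra.comul (R := k) v = v ⊗ₜ[k] c := ext_of_forall_slice_eq fun φ => by
    rw [slice_tmul, hsl]
    exact hact φ
  have hc : IsGroupLikeElem k c := by
    refine ⟨?_, ?_⟩
    · have := hact (Coalgebra.counit (R := k) (A := A))
      rw [actF_counit] at this
      have h2 := congrArg ψ₀ this
      rw [map_smul, hψ₀, smul_eq_mul, mul_one] at h2
      rw [hsl]
      exact h2.symm
    · have h := LinearMap.congr_fun (Coalgebra.coassoc (R := k) (A := A)) v
      simp only [LinearMap.comp_apply, LinearEquiv.coe_coe, hΔ, LinearMap.rTensor_tmul,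
        LinearMap.lTensor_tmul, TensorProduct.assoc_tmul] at h
      have h2 := congrArg (fun z => TensorProduct.lid k _ (ψ₀.rTensor (A ⊗[k] A) z)) h
      simp only [LinearMap.rTensor_tmul, TensorProduct.lid_tmul, hψ₀, one_smul] at h2
      exact h2.symm
  refine le_trans (le_of_nilpotent N hN (⨆ n, F k c n) _ U hUf rfl hst hnil ?_)
    (le_iSup₂_of_le c hc le_rfl)
  intro y _ hy
  have hshift : ∀ φ, shift c φ y = N φ y := fun φ => by
    simp only [shift, N, hsl]
  have hr : Coalgebra.comul (R := k) y - y ⊗ₜ[k] c ∈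
      LinearMap.range ((⨆ n, F k c n).subtype.rTensor A) :=
    (mem_range_rTensor_subtype_iff _ _).2 fun φ => by
      rw [← shift_eq_slice, hshift]
      exact hy φ
  have hex : ∀ z ∈ LinearMap.range ((⨆ n, F k c n).subtype.rTensor A),
      ∃ n, z ∈ LinearMap.range ((F k c n).subtype.rTensor A) := by
    rintro _ ⟨w, rfl⟩
    induction w using TensorProduct.induction_on with
    | zero => exact ⟨0, by simp⟩
    | tmul p a =>
      obtain ⟨n, hn⟩ := (Submodule.mem_iSup_of_directed _ (F_mono c).directed_le).1 p.2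
      exact ⟨n, by rw [LinearMap.rTensor_tmul]; exact tmul_mem_range hn a⟩
    | add p q hp hq =>
      obtain ⟨m, hm⟩ := hp
      obtain ⟨n, hn⟩ := hq
      exact ⟨max m n, by
        rw [map_add]
        exact add_mem (range_rTensor_mono (F_mono c (le_max_left m n)) hm)
          (range_rTensor_mono (F_mono c (le_max_right m n)) hn)⟩
  obtain ⟨n, hn⟩ := hex _ hr
  exact Submodule.mem_iSup_of_mem (n + 1) (mem_F_succ_iff_range.2 hn)

end Groth.Agent.UnipComp
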